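import Groth.Prelude.Def_LefPen
import Mathlib

/-!
# Points imposing independent conditions on forms
-/

set_option autoImplicit false
universe u

open Module MvPolynomial

namespace Groth.Agent.LefPen22

lemma finrank_form (k : Type u) [Field k] (r d : ℕ) :
    finrank k (LefPen.Form r k d) = (r + d).choose d ∧ Module.Finite k (LefPen.Form r k d) := by
  classical
  let S : Set (Fin (r + 1) →₀ ℕ) := {e | e.degree = d}
  have h : (CohB1.polyGrading r k d) = MvPolynomial.restrictSupport k S := by
    ext x
    rw [show (x ∈ CohB1.polyGrading r k d) ↔ x.IsHomogeneous d from mem_homogeneousSubmodule d x,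
      mem_restrictSupport_iff]
    constructor
    · intro hx e he
      by_contra hne
      exact (mem_support_iff.mp he) (hx.coeff_eq_zero hne)
    · intro hx e he
      have := hx (mem_support_iff.mpr he)
      rw [← this]
      simp [Finsupp.weight_apply, Finsupp.degree_apply, Finsupp.sum]
  let e : {P : Fin (r + 1) →₀ ℕ // P.sum (fun _ ↦ id) = d} ≃ S :=
    Equiv.subtypeEquivRight fun P => by simp [S, Finsupp.degree_apply, Finsupp.sum]
  let _ : Fintype S := Fintype.ofEquiv _ ((Sym.equivNatSum (Fin (r + 1)) d).trans e)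
  have b : Basis S k (CohB1.polyGrading r k d) :=
    (basisRestrictSupport k S).map (LinearEquiv.ofEq _ _ h.symm)
  refine ⟨?_, Module.Finite.of_basis b⟩
  rw [show finrank k (LefPen.Form r k d) = Fintype.card S from finrank_eq_card_basis b,
    Fintype.card_congr ((Sym.equivNatSum (Fin (r + 1)) d).trans e).symm, Sym.card_sym_eq_choose,
    Fintype.card_fin]
  congr 1
  omega

variable (k : Type u) [Field k] {r : ℕ}

lemma isPolyFun_coord {m : ℕ} (i : Fin m) (j : Fin (r + 1)) :
    LefPen.IsPolyFun k (fun x : Fin m → (Fin (r + 1) → k) => x i j) :=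
  let l : Module.Dual k (Fin m → Fin (r + 1) → k) :=
    (LinearMap.proj (R := k) (φ := fun _ : Fin (r + 1) => k) j).comp
      (LinearMap.proj (R := k) (φ := fun _ : Fin m => Fin (r + 1) → k) i)
  Algebra.subset_adjoin ⟨l, funext fun _ => rfl⟩

lemma isPolyFun_eval {m : ℕ} (i : Fin m) (p : MvPolynomial (Fin (r + 1)) k) :
    LefPen.IsPolyFun k (fun x : Fin m → (Fin (r + 1) → k) => MvPolynomial.aeval (x i) p) := by
  induction p using MvPolynomial.induction_on with
  | C a =>
    show _ ∈ Algebra.adjoin k
      (Set.range fun l : Module.Dual k (Fin m → Fin (r + 1) → k) => (l : _ → k))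
    convert Subalgebra.algebraMap_mem (Algebra.adjoin k
      (Set.range fun l : Module.Dual k (Fin m → Fin (r + 1) → k) => (l : _ → k))) a using 1
    funext x
    simp
  | add p q hp hq =>
    simp only [map_add]
    exact Subalgebra.add_mem _ hp hq
  | mul_X p j hp =>
    simp only [map_mul, aeval_X]
    exact Subalgebra.mul_mem _ hp (isPolyFun_coord k i j)

lemma eq_zero_of_det_ne_zero {V : Type*} [AddCommGroup V] [Module k V] [FiniteDimensional k V]
    (f : V →ₗ[k] V) (h : LinearMap.det f ≠ 0) (G : V) (hG : f G = 0) : G = 0 := by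
  have hu : IsUnit f := (LinearMap.isUnit_iff_isUnit_det f).mpr (isUnit_iff_ne_zero.mpr h)
  exact ((Module.End.isUnit_iff f).mp hu).1 (hG.trans (map_zero f).symm)

lemma exists_polyFun_of_injective {m d : ℕ} [Module.Finite k (LefPen.Form r k d)]
    (x : Fin m → (Fin (r + 1) → k))
    (hx : ∀ G : LefPen.Form r k d, (∀ i, MvPolynomial.aeval (x i) G.1 = 0) → G = 0) :
    ∃ f : (Fin m → (Fin (r + 1) → k)) → k, LefPen.IsPolyFun k f ∧ f x ≠ 0 ∧
      ∀ y, f y ≠ 0 → ∀ G : LefPen.Form r k d, (∀ i, MvPolynomial.aeval (y i) G.1 = 0) → G = 0 := by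
  classical
  let ev : (Fin m → (Fin (r + 1) → k)) → (LefPen.Form r k d →ₗ[k] (Fin m → k)) := fun y =>
    LinearMap.pi fun i => (MvPolynomial.aeval (y i)).toLinearMap ∘ₗ Submodule.subtype _
  have hinj : Function.Injective (ev x) := by
    rw [← LinearMap.ker_eq_bot, LinearMap.ker_eq_bot']
    exact fun G hG => hx G fun i => congr_fun hG i
  obtain ⟨L, hL⟩ := (ev x).exists_leftInverse_of_injective (LinearMap.ker_eq_bot.mpr hinj)
  let b := finBasis k (LefPen.Form r k d)
  let f : (Fin m → (Fin (r + 1) → k)) → k := fun y => LinearMap.det (L ∘ₗ ev y)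
  refine ⟨f, ?_, ?_, fun y hy G hG => ?_⟩
  · have hf : f = ∑ σ : Equiv.Perm (Fin (finrank k (LefPen.Form r k d))),
        ((Equiv.Perm.sign σ : ℤ) : k) • ∏ c, fun y => b.repr (L (ev y (b c))) (σ c) := by
      funext y
      show LinearMap.det _ = _
      rw [← LinearMap.det_toMatrix b, Matrix.det_apply']
      simp [Finset.prod_apply, LinearMap.toMatrix_apply]
    rw [hf]
    refine Subalgebra.sum_mem _ fun σ _ => Subalgebra.smul_mem _ (Subalgebra.prod_mem _ fun c _ => ?_) _
    have hcol : (fun y => b.repr (L (ev y (b c))) (σ c)) =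
        ∑ i, (b.repr (L (Pi.single i 1)) (σ c)) •
          fun y : Fin m → (Fin (r + 1) → k) => MvPolynomial.aeval (y i) (b c).1 := by
      funext y
      conv_lhs => rw [pi_eq_sum_univ' (ev y (b c))]
      simp [map_sum, ev, Finset.sum_apply, mul_comm]
    rw [hcol]
    exact Subalgebra.sum_mem _ fun i _ => Subalgebra.smul_mem _ (isPolyFun_eval k i _) _
  · show LinearMap.det _ ≠ 0
    rw [hL, LinearMap.det_id]
    exact one_ne_zero
  · have h0 : ev y G = 0 := funext hG
    by_contra hG0
    refine hy ?_
    by_contra hdet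
    exact hG0 (eq_zero_of_det_ne_zero k (L ∘ₗ ev y) hdet G
      (by rw [LinearMap.comp_apply, h0, map_zero]))

lemma exists_injective [Infinite k] {m d : ℕ} (hm : (r + d).choose d ≤ m) :
    ∃ x : Fin m → (Fin (r + 1) → k),
      ∀ G : LefPen.Form r k d, (∀ i, MvPolynomial.aeval (x i) G.1 = 0) → G = 0 := by
  classical
  haveI := (finrank_form k r d).2
  let φ : (Fin (r + 1) → k) → Module.Dual k (LefPen.Form r k d) := fun v =>
    (MvPolynomial.aeval v).toLinearMap ∘ₗ Submodule.subtype _
  have hspan : Submodule.span k (Set.range φ) = ⊤ := by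
    by_contra hne
    obtain ⟨G, hG, hGann⟩ : ∃ G : LefPen.Form r k d, G ≠ 0 ∧ ∀ v, φ v G = 0 := by
      by_contra! hno
      apply hne
      rw [← Subspace.dualCoannihilator_dualAnnihilator_eq (W := Submodule.span k (Set.range φ))]
      rw [show (Submodule.span k (Set.range φ)).dualCoannihilator = ⊥ from ?_,
        Submodule.dualAnnihilator_bot]
      rw [eq_bot_iff]
      intro G hG
      by_contra hG0
      obtain ⟨v, hv⟩ := hno G hG0
      exact hv ((Submodule.mem_dualCoannihilator G).mp hG _ (Submodule.subset_span ⟨v, rfl⟩))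
    refine hG (Subtype.ext ?_)
    exact MvPolynomial.funext fun v => by simpa [φ, MvPolynomial.aeval_eq_eval] using hGann v
  obtain ⟨s, hs, hss, hsli⟩ := exists_linearIndependent k (Set.range φ)
  let B := Basis.mk hsli (by rw [Subtype.range_coe, hss, hspan])
  haveI : Finite s := Module.Finite.finite_basis B
  haveI : Fintype s := Fintype.ofFinite s
  have hcard : Fintype.card s ≤ m := by
    rw [← finrank_eq_card_basis B, Subspace.dual_finrank_eq, (finrank_form k r d).1]
    exact hm
  choose v hv using fun t : s => hs t.2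
  obtain ⟨e⟩ : Nonempty (s ↪ Fin m) := Function.Embedding.nonempty_of_card_le (by simpa using hcard)
  refine ⟨fun i => if h : ∃ t, e t = i then v h.choose else 0, fun G hG => ?_⟩
  refine (Module.forall_dual_apply_eq_zero_iff k G).mp fun l => ?_
  rw [← B.sum_repr l, LinearMap.sum_apply]
  refine Finset.sum_eq_zero fun t _ => ?_
  have h1 := hG (e t)
  simp only [dif_pos (⟨t, rfl⟩ : ∃ t', e t' = e t)] at h1
  rw [e.injective (⟨t, rfl⟩ : ∃ t', e t' = e t).choose_spec] at h1
  rw [LinearMap.smul_apply, Basis.mk_apply, ← hv t]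
  exact smul_eq_zero_of_right _ h1

end Groth.Agent.LefPen22
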