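import Mathlib

/-!
# Differences of binomial expansions
-/

set_option autoImplicit false

namespace Groth.Agent.LefPen22

open Finset

variable {R : Type*} [CommRing R]

lemma sum_tri (a m : ℕ) (h : m ≤ a) (g : ℕ → ℕ → R) :
    (∑ i ∈ range a, ∑ j ∈ range a, if i + j < m then g i j else 0) =
      ∑ n ∈ range m, ∑ i ∈ range (n + 1), g i (n - i) := by
  rw [← Finset.sum_product', Finset.sum_sigma', ← Finset.sum_filter]
  refine Finset.sum_nbij' (fun p => ⟨p.1 + p.2, p.1⟩) (fun s => (s.2, s.1 - s.2)) ?_ ?_ ?_ ?_ ?_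
  · rintro ⟨i, j⟩ hp; simp at hp ⊢; omega
  · rintro ⟨n, i⟩ hs; simp at hs ⊢; omega
  · rintro ⟨i, j⟩ hp; simp
  · rintro ⟨n, i⟩ hs; simp at hs ⊢; omega
  · rintro ⟨i, j⟩ hp; simp

lemma mul_sum_tri (y z : R) (a m : ℕ) (h : m ≤ a) (c : ℕ → R) :
    (y - z) * (∑ i ∈ range a, ∑ j ∈ range a, if i + j < m then c (i + j) * y ^ i * z ^ j else 0) =
      ∑ n ∈ range m, c n * (y ^ (n + 1) - z ^ (n + 1)) := by
  rw [sum_tri a m h (fun i j => c (i + j) * y ^ i * z ^ j), Finset.mul_sum]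
  refine Finset.sum_congr rfl fun n _ => ?_
  rw [← geom_sum₂_mul y z (n + 1), Nat.add_sub_cancel, Finset.mul_sum, Finset.sum_mul,
    Finset.mul_sum]
  refine Finset.sum_congr rfl fun i hi => ?_
  rw [Nat.add_sub_cancel' (Nat.lt_succ_iff.mp (mem_range.mp hi))]
  ring

lemma binom_succ (y : R) (m : ℕ) :
    (1 + y) ^ m = 1 + ∑ n ∈ range m, (m.choose (n + 1) : R) * y ^ (n + 1) := by
  rw [add_comm (1 : R) y, add_pow, Finset.sum_range_succ', add_comm]
  simp [mul_comm]

lemma sub_pow_eq (y z : R) (a : ℕ) (_ha : 1 ≤ a) :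
    (1 + y) ^ (a - 1) - (1 + z) ^ (a - 1) =
      (y - z) * ∑ i ∈ range a, ∑ j ∈ range a,
        if i + j + 1 ≤ a - 1 then ((a - 1).choose (i + j + 1) : R) * y ^ i * z ^ j else 0 := by
  rw [show (∑ i ∈ range a, ∑ j ∈ range a,
      if i + j + 1 ≤ a - 1 then ((a - 1).choose (i + j + 1) : R) * y ^ i * z ^ j else 0) =
    ∑ i ∈ range a, ∑ j ∈ range a,
      if i + j < a - 1 then (fun n => ((a - 1).choose (n + 1) : R)) (i + j) * y ^ i * z ^ j else 0
    from Finset.sum_congr rfl fun i _ => Finset.sum_congr rfl fun j _ => if_congr Iff.rfl rfl rfl,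
    mul_sum_tri y z a (a - 1) (Nat.sub_le _ _) (fun n => ((a - 1).choose (n + 1) : R)), binom_succ, binom_succ,
    add_sub_add_left_eq_sub, ← Finset.sum_sub_distrib]
  exact Finset.sum_congr rfl fun n _ => by ring

lemma mul_sub_pow_eq (y z : R) (a : ℕ) (ha : 1 ≤ a) :
    (1 + y) ^ a * z - (1 + z) ^ a * y =
      (y - z) * (-1 + ∑ i ∈ range (a + 1), ∑ j ∈ range (a + 1),
        if 1 ≤ i ∧ 1 ≤ j ∧ i + j ≤ a then (a.choose (i + j) : R) * y ^ i * z ^ j else 0) := by
  obtain ⟨b, rfl⟩ : ∃ b, a = b + 1 := ⟨a - 1, by omega⟩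
  have hsum : (∑ i ∈ range (b + 1 + 1), ∑ j ∈ range (b + 1 + 1),
        if 1 ≤ i ∧ 1 ≤ j ∧ i + j ≤ b + 1 then ((b + 1).choose (i + j) : R) * y ^ i * z ^ j else 0) =
      y * z * ∑ i ∈ range (b + 1), ∑ j ∈ range (b + 1),
        if i + j < b then (fun n => ((b + 1).choose (n + 2) : R)) (i + j) * y ^ i * z ^ j else 0 := by
    simp only [Finset.sum_range_succ' _ (b + 1), Finset.mul_sum]
    simp only [show ¬ (1 ≤ 0) by omega, false_and, and_false, if_false, Finset.sum_const_zero,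
      add_zero]
    refine Finset.sum_congr rfl fun i _ => Finset.sum_congr rfl fun j _ => ?_
    by_cases hij : i + j < b
    · rw [if_pos (by omega), if_pos hij, show i + 1 + (j + 1) = i + j + 2 by omega]
      ring
    · rw [if_neg (by omega), if_neg hij, mul_zero]
  rw [hsum, mul_add, mul_left_comm, mul_sum_tri y z (b + 1) b (Nat.le_succ b) (fun n => ((b + 1).choose (n + 2) : R)),
    binom_succ, binom_succ, Finset.sum_range_succ' _ b, Finset.sum_range_succ' _ b]
  simp only [Nat.choose_one_right, zero_add, pow_one, add_mul, one_mul, Finset.sum_mul,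
    Finset.mul_sum, mul_sub, Finset.sum_sub_distrib]
  rw [show (∑ x ∈ range b, ((b + 1).choose (x + 1 + 1) : R) * y ^ (x + 1 + 1) * z) =
      ∑ x ∈ range b, y * z * (((b + 1).choose (x + 2) : R) * y ^ (x + 1)) from
    Finset.sum_congr rfl fun x _ => by ring,
    show (∑ x ∈ range b, ((b + 1).choose (x + 1 + 1) : R) * z ^ (x + 1 + 1) * y) =
      ∑ x ∈ range b, y * z * (((b + 1).choose (x + 2) : R) * z ^ (x + 1)) from
    Finset.sum_congr rfl fun x _ => by ring]
  push_cast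
  ring

end Groth.Agent.LefPen22
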